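import Cfsg.Agent.BZ.C7.Num
import Cfsg.Agent.BZ.T.Crit

/-!
# BZ, `3.Fi₂₄'` : the degrees of the faithful characters (helper25)

* `Dt K` : the data of `TAB/F24`; `Dt.int` : the scalar products of the rows with a faithful character are integers;
* `Dt.ex` : the rows of norm two give faithful characters; `Dt.lab`, `Dt.inj` : the faithful characters whose degree
  has a `2`-part between `2 ^ 9` and `2 ^ 18`.
-/

set_option autoImplicit false
set_option maxRecDepth 100000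
set_option linter.unusedSectionVars false

namespace Cfsg.Agent.BZ.C7

open Cfsg Cfsg.Agent.TAB.Eng Cfsg.Agent.TAB.Glue Cfsg.Agent.TAB.Cov Cfsg.Agent.TAB.F24 Finset
open Cfsg.Agent.Characters.Core Cfsg.Agent.H447.CTab
open scoped ComplexConjugate

/-- the data -/
structure Dt (K : Type) [Group K] where
  T : TD K DX
  mass : T.Mass
  z : K
  cen : z ∈ Subgroup.center K
  ord : orderOf z = 3
  ker : ∀ x, x ∈ Subgroup.zpowers z ↔ proj.getD (T.ty x) 0 = 0
  virt : ∀ x ∈ rels lvX [] ++ exX, Virt T (cmb colsX x)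

variable {K : Type} [Group K] [Fintype K] (d : Dt K)

/-- the complex conjugate -/
def bar (χ : IrrCharacter K) : IrrCharacter K := ⟨fun g => conj ((χ : K → ℂ) g), isIrr_conj χ.2⟩

theorem bar_apply (χ : IrrCharacter K) (g : K) : (bar χ : K → ℂ) g = conj ((χ : K → ℂ) g) := rfl

theorem bar_bar (χ : IrrCharacter K) : bar (bar χ) = χ := Subtype.ext (funext fun _ => Complex.conj_conj _)

/-- a function of the type -/
noncomputable def Dt.f (v : ℕ → ℤ) : K → ℂ := fun g => (v (d.T.ty g) : ℂ)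

/-- the scalar product with the row `j` -/
noncomputable def Dt.a (χ : IrrCharacter K) (j : ℕ) : ℂ := classInner (d.f (rw colsX j)) (χ : K → ℂ)

theorem Dt.cls (v : ℕ → ℤ) : IsClassFunction K (d.f v) := fun g c => by rw [Dt.f, Dt.f, d.T.conj]

theorem Dt.gram0 {j k : ℕ} (hj : j < 66) (hk : k ≤ j) :
    classInner (d.f (rw colsX j)) (d.f (rw colsX k)) = Gm j k := by
  rcases lt_or_ge j 49 with h | h
  · have h1 := orth_of_chkG okLenX gramX j (by rw [List.length_map, List.length_range]; exact h) k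
      (by rw [List.length_map, List.length_range]; exact hk.trans_lt h)
    rw [rj, rj, ntd_rwL colsX (show j < nmX.length from h), ntd_rwL colsX (show k < nmX.length from hk.trans_lt h),
      Gm_lt j h k (hk.trans_lt h)] at h1
    exact inner_of_ipF d.mass h1
  · have h1 := allL_spec ok_G j (List.mem_range'_1.2 ⟨h, hj⟩)
    rw [frcLZ_eq] at h1
    have h2 := allL_spec h1 k (List.mem_range.2 (Nat.lt_succ_of_le hk))
    rw [frcLZ_eq, frcZ_eq] at h2
    have h3 := inner_of_ip d.mass okLenX.2.1 (of_decide_eq_true h2)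
    unfold fn at h3
    rwa [nth_rwL, nth_rwL] at h3

theorem Dt.gram {j k : ℕ} (hj : j < 66) (hk : k < 66) :
    classInner (d.f (rw colsX j)) (d.f (rw colsX k)) = Gm j k := by
  rcases le_total k j with h | h
  · exact d.gram0 hj h
  · rw [← classInner_conj_symm, d.gram0 hk h, map_intCast, Gm_comm]

theorem look_one : ∀ t < 161, look (DX.pw t) 1 = t := by decide +kernel

theorem Dt.ty_inv (g : K) : d.T.ty g⁻¹ = d.T.ty g := by
  have h1 : g⁻¹ = g ^ (orderOf g - 1) := by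
    rw [inv_eq_iff_mul_eq_one, ← pow_succ', Nat.sub_add_cancel (orderOf_pos g), pow_orderOf_eq_one]
  have h2 : Nat.gcd (orderOf g - 1) (orderOf g) = 1 :=
    (Nat.coprime_self_sub_left (orderOf_pos g)).2 (Nat.coprime_one_left _)
  rw [h1, d.T.pow, Dat.pwf, ← d.T.ord, h2, look_one _ (d.T.lt g)]

theorem Dt.inner_bar (v : ℕ → ℤ) (χ : IrrCharacter K) :
    classInner (d.f v) (bar χ : K → ℂ) = classInner (d.f v) (χ : K → ℂ) := by
  rw [classInner_def, classInner_def]
  congr 1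
  refine Fintype.sum_equiv (Equiv.inv K) _ _ fun g => ?_
  rw [Equiv.inv_apply, isCharacter_apply_inv (isIrr_isCharacter χ.2), bar_apply, Dt.f, Dt.f, d.ty_inv]

theorem Dt.a_bar (χ : IrrCharacter K) (j : ℕ) : d.a (bar χ) j = d.a χ j := d.inner_bar _ χ

/-- **Bessel's inequality** -/
theorem Dt.bes (c : ℕ → ℤ) (Y : Finset (IrrCharacter K)) (v : ℝ)
    (h : ∀ ψ ∈ Y, ∑ j ∈ range 66, (c j : ℂ) * d.a ψ j = v) : (Y.card : ℝ) * v ^ 2 ≤ qf c := by
  have := finite_irr (G := K)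
  have := Fintype.ofFinite (IrrCharacter K)
  obtain ⟨g, hg⟩ : ∃ g, g = ∑ j ∈ range 66, (c j : ℂ) • d.f (rw colsX j) := ⟨_, rfl⟩
  have h1 : IsClassFunction K g := fun x y => by
    simp only [hg, Finset.sum_apply, Pi.smul_apply, d.cls _ x y]
  have h2 : classInner g g = (qf c : ℂ) := by
    rw [hg, classInner_sum_left, qf]
    push_cast
    refine sum_congr rfl fun j hj => ?_
    rw [classInner_smul_left, classInner_sum_right, mul_sum]
    refine sum_congr rfl fun k hk => ?_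
    rw [classInner_smul_right, d.gram (mem_range.1 hj) (mem_range.1 hk), map_intCast, mul_assoc]
  rw [classInner_eq_sum h1 h1] at h2
  simp only [Complex.mul_conj] at h2
  have h3 : ∑ ψ : IrrCharacter K, Complex.normSq (classInner g (ψ : K → ℂ)) = qf c := by exact_mod_cast h2
  rw [← h3, ← nsmul_eq_mul, ← sum_const]
  refine le_trans (le_of_eq (sum_congr rfl fun ψ hψ => ?_))
    (sum_le_sum_of_subset_of_nonneg (subset_univ Y) fun _ _ _ => Complex.normSq_nonneg _)
  rw [hg, classInner_sum_left, sum_congr rfl fun j _ => classInner_smul_left _ _ _]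
  exact ((congrArg Complex.normSq (h ψ hψ)).trans ((Complex.normSq_ofReal v).trans (sq v).symm)).symm

theorem Dt.ne_bar {χ ψ : IrrCharacter K} (h : (χ : K → ℂ) d.z ≠ (χ : K → ℂ) 1)
    (ho : (χ : K → ℂ) d.z / (χ : K → ℂ) 1 = (ψ : K → ℂ) d.z / (ψ : K → ℂ) 1) : χ ≠ bar ψ := fun e => by
  have h1 := T.cen_root ψ.2 d.cen
  have h2 : (ψ : K → ℂ) d.z / (ψ : K → ℂ) 1 ≠ 1 := fun e' =>
    h ((div_eq_one_iff_eq (Blocks.Basic.irr_one_ne_zero χ.2)).1 (ho.trans e'))
  rw [e, bar_apply, bar_apply, ← map_div₀] at ho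
  rw [d.ord] at h1
  generalize (ψ : K → ℂ) d.z / (ψ : K → ℂ) 1 = c at *
  have h3 : c ^ 2 + c + 1 = 0 := mul_left_cancel₀ (sub_ne_zero.2 h2) (by linear_combination h1)
  rw [← Complex.conj_eq_iff_re.1 ho] at h3
  have h4 : c.re ^ 2 + c.re + 1 = 0 := by exact_mod_cast h3
  nlinarith [sq_nonneg (2 * c.re + 1)]

theorem Dt.bes2 {χ : IrrCharacter K} (h : (χ : K → ℂ) d.z ≠ (χ : K → ℂ) 1) {q : ℤ} (hq : q ≠ 0) {y : ℕ → ℤ}
    (hy : ∀ j < 66, (y j : ℂ) = q * d.a χ j) : Bes q y := fun c => by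
  classical
  have h0 : (q : ℂ) ≠ 0 := by exact_mod_cast hq
  have h0' : (q : ℝ) ≠ 0 := by exact_mod_cast hq
  have h1 : ∑ j ∈ range 66, (c j : ℂ) * d.a χ j = (((∑ j ∈ range 66, c j * y j : ℤ) / q : ℝ) : ℂ) := by
    push_cast
    rw [eq_div_iff h0, sum_mul]
    exact sum_congr rfl fun j hj => by rw [hy j (mem_range.1 hj)]; ring
  have h2 := d.bes c {χ, bar χ} _ fun ψ hψ => by
    rcases mem_insert.1 hψ with rfl | hψ
    · exact h1
    · rw [mem_singleton.1 hψ]
      simp only [d.a_bar]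
      exact h1
  rw [card_pair (d.ne_bar h rfl), div_pow, ← mul_div_assoc, div_le_iff₀ (by positivity)] at h2
  rw [mul_comm (q ^ 2)]
  exact_mod_cast h2

/-- the value of a combination -/
noncomputable def evc (a : ℕ → ℂ) (x : List (ℤ × ℕ)) : ℂ := (x.map fun p => (p.1 : ℂ) * a p.2).sum

theorem Dt.inner_cmb (χ : IrrCharacter K) (x : List (ℤ × ℕ)) :
    classInner (d.f (cmb colsX x)) (χ : K → ℂ) = evc (d.a χ) x := by
  induction x with
  | nil => exact (congrArg (classInner · (χ : K → ℂ)) (funext fun g => Int.cast_zero)).trans (classInner_zero_left _)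
  | cons p x ih =>
    rw [evc, List.map_cons, List.sum_cons, ← evc, ← ih, Dt.a, ← classInner_smul_left, ← classInner_add_left]
    congr 1
    funext g
    simp only [Dt.f, cmb_cons, Int.cast_add, Int.cast_mul, Pi.add_apply, Pi.smul_apply, smul_eq_mul]

theorem evc_co (a : ℕ → ℂ) (x : List (ℤ × ℕ)) (h : ∀ p ∈ x, p.2 = 0 ∨ p.2 = 3 ∨ p.2 = 4 ∨ p.2 = 18) :
    evc a x = co 0 x * a 0 + co 3 x * a 3 + co 4 x * a 4 + co 18 x * a 18 := by
  induction x with
  | nil => simp [evc, co]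
  | cons p x ih =>
    have h1 := ih fun q hq => h q (List.mem_cons_of_mem _ hq)
    simp only [evc, co, List.map_cons, List.sum_cons, Int.cast_add] at h1 ⊢
    rw [h1]
    rcases h p List.mem_cons_self with h2 | h2 | h2 | h2 <;> simp [h2] <;> ring

/-- **the scalar products are integers** -/
theorem Dt.int {χ : IrrCharacter K} (h : (χ : K → ℂ) d.z ≠ (χ : K → ℂ) 1) :
    ∃ a : ℕ → ℤ, Bes 1 a ∧ ∀ j < 66, d.a χ j = a j := by
  have h0 := d.ne_bar h rfl
  have h0' : (χ : K → ℂ) ≠ (bar χ : K → ℂ) := fun e => h0 (Subtype.ext e)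
  have h1 : ∀ v, classInner (d.f v) ((2⁻¹ : ℂ) • ((χ : K → ℂ) + (bar χ : K → ℂ))) = classInner (d.f v) (χ : K → ℂ) :=
    fun v => by
      rw [classInner_smul_right, classInner_add_right, d.inner_bar, map_inv₀, map_ofNat]
      ring
  have h2 := glueF d.mass (orth_of_chkG okLenX gramX) (lv := lvY) (L := 4) (q := 2)
    (by rw [List.length_map, List.length_range]; exact ok_lvY)
    (fun x hx => by
      rw [comb_rwL colsX (okQ_lt ok_lvY x hx)]
      exact d.virt x (List.mem_append_left _ (rels_lvY ▸ hx)))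
    (φ := (2⁻¹ : ℂ) • ((χ : K → ℂ) + (bar χ : K → ℂ))) (by
      rw [classInner_smul_left, classInner_smul_right, classInner_add_left, classInner_add_right, classInner_add_right,
        classInner_irr_self χ.2, classInner_irr_self (bar χ).2, classInner_irr_ne χ.2 (bar χ).2 h0',
        classInner_irr_ne (bar χ).2 χ.2 h0'.symm, map_inv₀, map_ofNat]
      norm_num)
    fun f hf => ⟨_, (h1 f).trans (inner_mu hf χ)⟩
  have h3 : ∀ j < 49, (∃ l ∈ lvY, l.tg = true ∧ l.j = j) → ∃ n : ℤ, d.a χ j = n := fun j hj ⟨l, a1, a2, a3⟩ => by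
    obtain ⟨n, hn⟩ := h2 l a1 a2
    unfold fn at hn
    rw [a3, ntd_rwL colsX (show j < nmX.length from hj)] at hn
    exact ⟨n, (h1 _).symm.trans hn⟩
  obtain ⟨n3, e3⟩ := h3 3 (by decide) mem_lvY.1
  obtain ⟨n18, e18⟩ := h3 18 (by decide) mem_lvY.2
  have h4 : ∀ x ∈ rels lvX [] ++ exX, ∃ n : ℤ, evc (d.a χ) x = n := fun x hx =>
    ⟨_, (d.inner_cmb χ x).symm.trans (inner_mu (d.virt x hx) χ)⟩
  obtain ⟨m0, e0⟩ := h4 _ mem0
  obtain ⟨m4, e4⟩ := h4 _ mem4
  simp only [evc, List.map_cons, List.map_nil, List.sum_cons, List.sum_nil, e18] at e0 e4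
  have h5 : ∀ j, ∃ y : ℤ, j < 66 → (y : ℂ) = (3 : ℤ) * d.a χ j ∧ 3 ∣ y + rs (m0 - 129 * n18) (m4 - 15 * n18) j :=
    fun j => by
    by_cases hj : j < 66
    · obtain ⟨a1, a2⟩ := TL_mem j hj
      obtain ⟨n, hn⟩ : ∃ n : ℤ, d.a χ j + evc (d.a χ) (TL.getD j []) = n := by
        rcases a1 with a1 | a1
        · exact ⟨0, by rw [a1]; simp [evc]⟩
        · obtain ⟨n, hn⟩ := h4 _ a1
          exact ⟨n, by rwa [evc, List.map_cons, List.sum_cons, ← evc, Int.cast_one, one_mul] at hn⟩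
      rw [evc_co _ _ a2, e3, e18] at hn
      refine ⟨3 * (n - co 3 (TL.getD j []) * n3 - co 18 (TL.getD j []) * n18) -
        rs (m0 - 129 * n18) (m4 - 15 * n18) j, fun _ => ⟨?_, by rw [sub_add_cancel]; exact dvd_mul_right _ _⟩⟩
      rw [rs]
      push_cast at e0 e4 ⊢
      linear_combination (-3) * hn + co 0 (TL.getD j []) * e0 + co 4 (TL.getD j []) * e4
    · exact ⟨0, fun e => absurd e hj⟩
  choose y hy using h5
  have h6 := d.bes2 h (by decide) fun j hj => (hy j hj).1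
  have h7 := third h6 fun j hj => (hy j hj).2
  have h8 : ∀ j < 66, y j = 3 * (y j / 3) := fun j hj => (Int.mul_ediv_cancel' (h7 j hj)).symm
  refine ⟨fun j => y j / 3, h6.div h8, fun j hj => mul_left_cancel₀ (three_ne_zero (α := ℂ)) ?_⟩
  have h9 := (hy j hj).1
  rw [h8 j hj] at h9
  exact_mod_cast h9.symm

open Classical in
theorem Dt.reg : ∑ k ∈ range 66, (bb k : ℂ) • d.f (rw colsX k) = fun x =>
    (if x = 1 then (3 * DT.N : ℂ) else 0) - if x ∈ Subgroup.zpowers d.z then (DT.N : ℂ) else 0 := by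
  have h1 := finX
  simp only [okF, Bool.and_eq_true, decide_eq_true_eq, beq_iff_eq] at h1
  funext x
  have h2 := of_decide_eq_true (allL_spec h1.2 _ (List.mem_range.2 (d.T.lt x)))
  rw [dotL_eq regX _ (k := 66) (by decide)] at h2
  simp only [TD.ty_eq_zero d.mass h1.1.1.1.1.1 h1.1.1.1.1.2 h1.1.1.1.2, ← d.ker] at h2
  have h3 := congrArg (Int.cast : ℤ → ℂ) h2
  simp only [Int.cast_sum, Int.cast_mul, Int.cast_sub, apply_ite (Int.cast : ℤ → ℂ), Int.cast_zero, nth_eq regX] at h3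
  rw [Finset.sum_apply]
  refine h3.trans ?_
  norm_num [DT]

open Classical in
theorem Dt.inner_reg (χ : IrrCharacter K) : ∑ k ∈ range 66, (bb k : ℂ) * d.a χ k =
    (χ : K → ℂ) 1 - 3⁻¹ * ∑ x, if x ∈ Subgroup.zpowers d.z then conj ((χ : K → ℂ) x) else 0 := by
  have h1 := congrArg (classInner · (χ : K → ℂ)) d.reg
  simp only [classInner_sum_left, classInner_smul_left] at h1
  refine h1.trans ?_
  have h2 : (Nat.card K : ℂ) = 3 * DT.N := by rw [d.mass.1]; norm_num [DT, DX]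
  have h3 : (DT.N : ℂ) ≠ 0 := by norm_num [DT]
  simp only [classInner_def, sub_mul, sum_sub_distrib, ite_mul, zero_mul, sum_ite_eq', mem_univ, if_true, h2]
  rw [sum_congr rfl (g := fun x => (DT.N : ℂ) * if x ∈ Subgroup.zpowers d.z then conj ((χ : K → ℂ) x) else 0)
    fun x _ => by rw [mul_ite, mul_zero], ← mul_sum, Blocks.Basic.irr_one_eq_charDegree χ.2, map_natCast]
  field_simp

theorem Dt.deg {χ : IrrCharacter K} (h : (χ : K → ℂ) d.z ≠ (χ : K → ℂ) 1) :
    ∑ k ∈ range 66, (bb k : ℂ) * d.a χ k = charDegree (χ : K → ℂ) := by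
  classical
  have h1 : ∑ x, (if x ∈ Subgroup.zpowers d.z then conj ((χ : K → ℂ) x) else 0) =
      conj ((χ : K → ℂ) d.z / (χ : K → ℂ) 1) * ∑ x, if x ∈ Subgroup.zpowers d.z then conj ((χ : K → ℂ) x) else 0 := by
    rw [mul_sum]
    refine (Fintype.sum_equiv (Equiv.mulRight d.z) _ _ fun x => ?_).symm
    simp only [Equiv.coe_mulRight, T.cen_mul χ.2 d.cen x, map_mul, mul_ite, mul_zero,
      Subgroup.mul_mem_cancel_right _ (Subgroup.mem_zpowers d.z)]
  have h2 : ∑ x, (if x ∈ Subgroup.zpowers d.z then conj ((χ : K → ℂ) x) else 0) = 0 := by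
    by_contra h2
    refine h ((div_eq_one_iff_eq (Blocks.Basic.irr_one_ne_zero χ.2)).1 ((starRingEnd ℂ).injective
      (mul_right_cancel₀ h2 ?_)))
    rw [← h1, map_one, one_mul]
  rw [d.inner_reg, ← Blocks.Basic.irr_one_eq_charDegree χ.2]
  convert sub_zero _
  convert mul_zero _

theorem Dt.deg0 {χ : IrrCharacter K} (h : (χ : K → ℂ) d.z = (χ : K → ℂ) 1) :
    ∑ k ∈ range 66, (bb k : ℂ) * d.a χ k = 0 := by
  classical
  have h0 := Blocks.Basic.irr_one_ne_zero χ.2
  have h1 : ∑ x, (if x ∈ Subgroup.zpowers d.z then conj ((χ : K → ℂ) x) else 0) = 3 * (χ : K → ℂ) 1 := by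
    rw [sum_congr rfl (g := fun x => if x ∈ Subgroup.zpowers d.z then (χ : K → ℂ) 1 else 0) fun x _ => by
      split_ifs with hx
      · obtain ⟨n, rfl⟩ := mem_powers_iff_mem_zpowers.2 hx
        have h2 := T.cen_pow χ.2 d.cen n
        rw [h, div_self h0, one_pow, div_eq_one_iff_eq h0] at h2
        simp only [h2, Blocks.Basic.irr_one_eq_charDegree χ.2, map_natCast]
      · rfl, ← sum_filter, sum_const, ← Fintype.card_subtype, ← Nat.card_eq_fintype_card, Nat.card_zpowers, d.ord,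
      nsmul_eq_mul, Nat.cast_ofNat]
  rw [d.inner_reg]
  convert sub_self _
  convert (congrArg (3⁻¹ * ·) h1).trans _
  ring

theorem Dt.deg' {χ : IrrCharacter K} (h : (χ : K → ℂ) d.z ≠ (χ : K → ℂ) 1) {a : ℕ → ℤ} (ha : ∀ j < 66, d.a χ j = a j) :
    ∑ k ∈ range 66, bb k * a k = charDegree (χ : K → ℂ) := by
  have h1 := d.deg h
  rw [sum_congr rfl fun k hk => by rw [ha k (mem_range.1 hk)]] at h1
  exact_mod_cast h1

/-- **the rows of norm two** -/
theorem Dt.ex {j : ℕ} (hj : j < 42) :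
    ∃ χ : IrrCharacter K, (χ : K → ℂ) d.z ≠ (χ : K → ℂ) 1 ∧ (charDegree (χ : K → ℂ) : ℤ) = bb j := by
  have := finite_irr (G := K)
  have := Fintype.ofFinite (IrrCharacter K)
  have h1 : IsClassFunction K (∑ k ∈ range 66, (bb k : ℂ) • d.f (rw colsX k)) := fun x y => by
    simp only [Finset.sum_apply, Pi.smul_apply, d.cls _ x y]
  have h2 := classInner_eq_sum (d.cls (rw colsX j)) h1
  rw [classInner_sum_right, sum_congr rfl (g := fun k => ((bb k * Gm j k : ℤ) : ℂ)) fun k hk => by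
    rw [classInner_smul_right, d.gram (by omega) (mem_range.1 hk), map_intCast, Int.cast_mul], ← Int.cast_sum] at h2
  obtain ⟨χ, -, h3⟩ := exists_ne_zero_of_sum_ne_zero (h2.symm.trans_ne (Int.cast_ne_zero.2 (gm_bb j hj)))
  have h4 : (χ : K → ℂ) d.z ≠ (χ : K → ℂ) 1 := fun e => right_ne_zero_of_mul h3 (by
    rw [classInner_sum_left, sum_congr rfl fun k _ => classInner_smul_left _ _ _]
    exact (congrArg conj (d.deg0 e)).trans (map_zero _))
  obtain ⟨a, h5, h6⟩ := d.int h4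
  have h7 := d.deg' h4 h6
  refine ⟨χ, h4, h7.symm.trans (one_of_single h5 (by omega) (one42 h5 hj fun e => left_ne_zero_of_mul h3 ?_) ?_).2⟩
  · exact (h6 j (by omega)).trans (by rw [e, Int.cast_zero])
  · rw [h7]
    exact_mod_cast Blocks.Basic.charDegree_pos χ.2

/-- **the label** -/
theorem Dt.lab {χ : IrrCharacter K} (h : (χ : K → ℂ) d.z ≠ (χ : K → ℂ) 1) (h9 : 2 ^ 9 ∣ charDegree (χ : K → ℂ))
    (h19 : ¬ 2 ^ 19 ∣ charDegree (χ : K → ℂ)) : ∃ j ∈ JJ, (charDegree (χ : K → ℂ) : ℤ) = bb j ∧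
      ∀ k < 66, d.a χ k = if k = j then 1 else 0 := by
  obtain ⟨a, h5, h6⟩ := d.int h
  have h7 := d.deg' h h6
  have h8 : 0 < ∑ k ∈ range 66, bb k * a k := by
    rw [h7]
    exact_mod_cast Blocks.Basic.charDegree_pos χ.2
  obtain ⟨j, hj, h1⟩ := C7.cls h5 h8 (by rw [h7]; exact_mod_cast h9)
  obtain ⟨h2, h3⟩ := one_of_single h5 hj h1 h8
  rw [h7] at h3
  refine ⟨j, mem_JJ j hj (by rw [← h3]; exact_mod_cast h9) (by rw [← h3]; exact_mod_cast h19), h3, fun k hk => ?_⟩
  rw [h6 k hk]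
  split_ifs with e
  · rw [e, h2, Int.cast_one]
  · rw [h1 k hk e, Int.cast_zero]

/-- **the label is injective** -/
theorem Dt.inj {χ ψ : IrrCharacter K} (h : (χ : K → ℂ) d.z ≠ (χ : K → ℂ) 1) (h' : (ψ : K → ℂ) d.z ≠ (ψ : K → ℂ) 1)
    (ho : (χ : K → ℂ) d.z / (χ : K → ℂ) 1 = (ψ : K → ℂ) d.z / (ψ : K → ℂ) 1) {j : ℕ} (hj : j ∈ JJ)
    (h1 : ∀ k < 66, d.a χ k = if k = j then 1 else 0) (h2 : ∀ k < 66, d.a ψ k = if k = j then 1 else 0) : χ = ψ := by
  classical
  by_contra e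
  have h3 : j < 66 := (by decide : ∀ j ∈ JJ, j < 66) j hj
  have h4 : ∀ φ : IrrCharacter K, (∀ k < 66, d.a φ k = if k = j then 1 else 0) →
      ∑ k ∈ range 66, ((if k = j then 2 else if k = 49 then -sg j else 0 : ℤ) : ℂ) * d.a φ k = (2 : ℝ) := fun φ hφ => by
    rw [sum_eq_single_of_mem j (mem_range.2 h3) fun k hk hkj => by
      rw [hφ k (mem_range.1 hk), if_neg hkj, if_neg hkj, mul_zero],
      hφ j h3, if_pos rfl, if_pos rfl]
    norm_num
  have h5 := d.bes _ {χ, ψ, bar χ, bar ψ} 2 fun φ hφ => by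
    simp only [mem_insert, mem_singleton] at hφ
    rcases hφ with rfl | rfl | rfl | rfl
    · exact h4 _ h1
    · exact h4 _ h2
    · exact h4 _ fun k hk => (d.a_bar χ k).trans (h1 k hk)
    · exact h4 _ fun k hk => (d.a_bar ψ k).trans (h2 k hk)
  have h6 : bar χ ≠ bar ψ := fun e' => e (by rw [← bar_bar χ, e', bar_bar])
  rw [card_insert_of_notMem (by simp [e, d.ne_bar h rfl, d.ne_bar h ho]),
    card_insert_of_notMem (by simp [d.ne_bar h' rfl, d.ne_bar h' ho.symm]), card_pair h6] at h5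
  have h7 : (qf (fun k => if k = j then 2 else if k = 49 then -sg j else 0) : ℝ) < 16 := by exact_mod_cast qf_two j hj
  norm_num at h5
  linarith

end Cfsg.Agent.BZ.C7
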