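import Cfsg.Agent.TAB.F24.CertX

/-!
# BZ, `3.Fi₂₄'` : the numerical part (helper25)

The 66 rows of `TAB/F24/TabX` have the Gram matrix `Gm`.  The vector of the scalar products of the rows with a faithful
character satisfies the inequalities `Bes`.

* `third` : the vector is integral; `one42`, `cls` : the classification of the vectors; `qf_two` : two characters.
-/

set_option autoImplicit false
set_option maxRecDepth 100000

namespace Cfsg.Agent.BZ.C7

open Cfsg.Agent.TAB.Eng Cfsg.Agent.TAB.Glue Cfsg.Agent.TAB.Cov Cfsg.Agent.TAB.F24 Finset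

/-- the signs of the last 17 rows -/
def sg (j : ℕ) : ℤ :=
  if j < 49 then 0 else ([1, -1, -1, 1, 1, -1, 1, 1, -1, -1, -1, 1, 1, 1, 1, -1, -1] : List ℤ).getD (j - 49) 0

/-- the diagonal part -/
def dg (j : ℕ) : ℤ := if 42 ≤ j ∧ j < 49 then 4 else 2

/-- the weights -/
def wt (j : ℕ) : ℤ := if 42 ≤ j ∧ j < 49 then 9 else 18

/-- the Gram matrix -/
def Gm (j k : ℕ) : ℤ := (if j = k then dg j else 0) + 2 * sg j * sg k

/-- the degrees -/
def bb (j : ℕ) : ℤ := regX.getD j 0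

/-- the quadratic form -/
def qf (c : ℕ → ℤ) : ℤ := ∑ j ∈ range 66, ∑ k ∈ range 66, c j * c k * Gm j k

/-- Bessel's inequality for a pair of characters -/
def Bes (q : ℤ) (y : ℕ → ℤ) : Prop := ∀ c : ℕ → ℤ, 2 * (∑ j ∈ range 66, c j * y j) ^ 2 ≤ q ^ 2 * qf c

/-- the check of the Gram matrix -/
noncomputable def okG : Bool :=
  allL (fun j => frcLZ (rwL colsX j) fun r => allL (fun k => frcLZ (rwL colsX k) fun s => frcZ (ip DX r s) fun w =>
    decide (w = DX.N * Gm j k)) (List.range (j + 1))) (List.range' 49 17)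

theorem ok_G : okG = true := by decide +kernel

theorem Gm_comm (j k : ℕ) : Gm j k = Gm k j := by
  unfold Gm
  split_ifs with h1 h2 h2
  · rw [h1]
  · exact absurd h1.symm h2
  · exact absurd h2.symm h1
  · ring

theorem Gm_lt : ∀ j < 49, ∀ k < 49, (if j = k then (DX.N : ℤ) * ntd nmX 0 j else 0) = DX.N * Gm j k := by
  decide +kernel

theorem facts : ∀ j < 66, wt j * sg j = 18 * sg j ∧ dg j * wt j = 36 ∧ dg j * sg j = 2 * sg j ∧ 9 ≤ wt j ∧
    Gm j j ≤ 4 := by decide +kernel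

theorem sg_sq : ∀ i < 17, sg (49 + i) ^ 2 = 1 ∧ wt (49 + i) = 18 := by decide +kernel

theorem sum_sg : ∑ k ∈ range 66, sg k ^ 2 = 17 := by decide +kernel

theorem idn (x : ℕ → ℤ) (n : ℕ) : ∑ i ∈ range n, ∑ k ∈ range n, (x i - x k) ^ 2 =
    2 * n * ∑ i ∈ range n, x i ^ 2 - 2 * (∑ i ∈ range n, x i) ^ 2 := by
  simp only [sub_sq, sum_add_distrib, sum_sub_distrib, sum_const, card_range, ← mul_sum, ← sum_mul, nsmul_eq_mul]
  ring

variable {q : ℤ} {y : ℕ → ℤ}

theorem tot (h : Bes q y) : ∑ j ∈ range 66, wt j * y j ^ 2 - (∑ j ∈ range 66, sg j * y j) ^ 2 ≤ 18 * q ^ 2 := by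
  obtain ⟨S, hS⟩ : ∃ S, S = ∑ j ∈ range 66, sg j * y j := ⟨_, rfl⟩
  have h1 : ∑ k ∈ range 66, (wt k * y k - sg k * S) * sg k = S := by
    rw [sum_congr rfl (g := fun k => 18 * (sg k * y k) - sg k ^ 2 * S) fun k hk => by
      linear_combination y k * (facts k (mem_range.1 hk)).1, sum_sub_distrib, ← mul_sum, ← sum_mul, sum_sg, ← hS]
    ring
  have h2 : ∀ j ∈ range 66, ∑ k ∈ range 66, (wt j * y j - sg j * S) * (wt k * y k - sg k * S) * Gm j k =
      36 * ((wt j * y j - sg j * S) * y j) := fun j hj => by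
    obtain ⟨-, a2, a3, -⟩ := facts j (mem_range.1 hj)
    rw [sum_congr rfl (g := fun k => (wt j * y j - sg j * S) * ((if j = k then (wt k * y k - sg k * S) * dg j else 0) +
      2 * sg j * ((wt k * y k - sg k * S) * sg k))) fun k _ => by unfold Gm; split_ifs <;> ring, ← mul_sum,
      sum_add_distrib, ← mul_sum, h1, sum_ite_eq, if_pos hj]
    linear_combination (wt j * y j - sg j * S) * (y j * a2 - S * a3)
  have h3 := h fun j => wt j * y j - sg j * S
  rw [qf, sum_congr rfl h2, ← mul_sum] at h3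
  have h4 : ∑ j ∈ range 66, (wt j * y j - sg j * S) * y j = ∑ j ∈ range 66, wt j * y j ^ 2 - S ^ 2 := by
    rw [sum_congr rfl (g := fun j => wt j * y j ^ 2 - S * (sg j * y j)) fun j _ => by ring, sum_sub_distrib,
      ← mul_sum, ← hS, sq]
  rw [h4] at h3
  rw [← hS]
  by_contra h5
  nlinarith [sq_nonneg q]

theorem tot' (h : Bes q y) : 2 * ∑ j ∈ range 49, wt j * y j ^ 2 + 2 * ∑ i ∈ range 17, y (49 + i) ^ 2 +
    ∑ i ∈ range 17, ∑ k ∈ range 17, (sg (49 + i) * y (49 + i) - sg (49 + k) * y (49 + k)) ^ 2 ≤ 36 * q ^ 2 := by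
  have h1 := tot h
  rw [sum_range_add _ 49 17, sum_range_add _ 49 17, sum_eq_zero (s := range 49) (f := fun j => sg j * y j)
    fun j hj => by rw [sg, if_pos (mem_range.1 hj), zero_mul],
    sum_congr (s₁ := range 17) rfl (g := fun i => 18 * y (49 + i) ^ 2) fun i hi => by
      rw [(sg_sq i (mem_range.1 hi)).2], ← mul_sum] at h1
  rw [idn, sum_congr rfl (f := fun i => (sg (49 + i) * y (49 + i)) ^ 2) (g := fun i => y (49 + i) ^ 2) fun i hi => by
    rw [mul_pow, (sg_sq i (mem_range.1 hi)).1, one_mul]]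
  push_cast
  linarith

/-! ### the vectors are integral -/

/-- the rows modulo the rows `0, 3, 4, 18` -/
def TL : List (List (ℤ × ℕ)) :=
  [[(-1, 0)], [(1, 0), (0, 3), (35, 18)], [(8, 18)], [(-1, 3)], [(-1, 4)], [(1, 3), (40, 18)], [(1, 4), (1, 0),
  (0, 3), (82, 18)], [(46, 18)], [(1, 4), (1, 0), (0, 3), (96, 18)], [(1, 3), (90, 18)], [(1, 3), (58, 18)],
  [(63, 18)], [(96, 18)], [(132, 18)], [(1, 0), (0, 3), (10, 18)], [(2, 0), (0, 3), (38, 18)], [(44, 18)], [(2,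
  4), (1, 0), (1, 3), (17, 18)], [(-1, 18)], [(63, 18)], [(1, 3), (41, 18)], [(2, 0), (0, 3), (8, 18)], [(132,
  18)], [(1, 3), (9, 18)], [(1, 3), (9, 18)], [(1, 0), (1, 3), (37, 18)], [(81, 18)], [(1, 3), (25, 18)], [(1,
  3), (25, 18)], [(30, 18)], [(111, 18)], [], [], [], [(1, 4), (1, 0), (0, 3), (48, 18)], [(1, 4), (1, 0), (1,
  3), (117, 18)], [], [(112, 18)], [(1, 3), (69, 18)], [], [], [(96, 18)], [(1, 0), (0, 3), (43, 18)], [(34,
  18)], [(126, 18)], [(96, 18)], [], [(1, 4), (1, 0), (0, 3), (48, 18)], [], [], [(1, 0), (1, 3), (2, 4), (134,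
  18)], [(2, 0), (2, 4), (88, 18)], [(1, 0), (1, 4), (119, 18)], [(1, 0), (1, 4), (58, 18)], [(1, 3), (2, 4),
  (14, 18)], [(1, 0), (1, 4), (54, 18)], [(1, 0), (1, 3), (1, 4), (64, 18)], [(1, 0), (1, 4), (55, 18)], [(2,
  0), (2, 4), (64, 18)], [(2, 0), (1, 3), (2, 4), (85, 18)], [(1, 0), (1, 3), (1, 4), (98, 18)], [(1, 0), (1,
  4), (88, 18)], [(1, 0), (1, 4), (134, 18)], [(1, 0), (1, 4), (97, 18)], [(1, 0), (1, 4), (79, 18)], [(2, 0),
  (1, 3), (2, 4), (40, 18)]]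

theorem TL_mem : ∀ j < 66, (TL.getD j [] = [(-1, j)] ∨ (1, j) :: TL.getD j [] ∈ rels lvX [] ++ exX) ∧
    ∀ p ∈ TL.getD j [], p.2 = 0 ∨ p.2 = 3 ∨ p.2 = 4 ∨ p.2 = 18 := by decide +kernel

theorem mem0 : [(3, 0), (0, 3), (129, 18)] ∈ rels lvX [] ++ exX := by decide +kernel

theorem mem4 : [(3, 4), (0, 0), (0, 3), (15, 18)] ∈ rels lvX [] ++ exX := by decide +kernel

/-- the levels with the targets `3` and `18` -/
def lvY : List Lv := lvX.map fun l => ⟨l.j, l.w, l.d, l.a, l.j == 3 || l.j == 18⟩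

theorem ok_lvY : okQ nmX.length nmX lvY 4 2 = true := by decide +kernel

theorem rels_lvY : rels lvY [] = rels lvX [] := by decide +kernel

theorem mem_lvY : (∃ l ∈ lvY, l.tg = true ∧ l.j = 3) ∧ ∃ l ∈ lvY, l.tg = true ∧ l.j = 18 := by decide +kernel

/-- the coefficient of `k` -/
def co (k : ℕ) (x : List (ℤ × ℕ)) : ℤ := (x.map fun p => if p.2 = k then p.1 else 0).sum

/-- the residue -/
def rs (u w : ℤ) (j : ℕ) : ℤ := co 0 (TL.getD j []) * u + co 4 (TL.getD j []) * w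

/-- the indicator -/
def nz (r : ℤ) : ℤ := if r % 3 = 0 then 0 else 1

theorem nz_le {z r : ℤ} (h : 3 ∣ z + r) : nz r ≤ z ^ 2 := by
  unfold nz
  split_ifs with h1
  · exact sq_nonneg z
  · exact sq_pos_of_ne_zero (a := z) fun e => h1 (by omega)

theorem big : ∀ u ∈ ([0, 1, 2] : List ℤ), ∀ w ∈ ([0, 1, 2] : List ℤ), (u = 0 ∧ w = 0) ∨
    324 < 2 * ∑ j ∈ range 49, wt j * nz (rs u w j) + 2 * ∑ i ∈ range 17, nz (rs u w (49 + i)) +
      ∑ i ∈ range 17, ∑ k ∈ range 17, nz (sg (49 + i) * rs u w (49 + i) - sg (49 + k) * rs u w (49 + k)) := by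
  decide +kernel

theorem third (h : Bes 3 y) {u w : ℤ} (hy : ∀ j < 66, 3 ∣ y j + rs u w j) : ∀ j < 66, 3 ∣ y j := by
  have h1 : ∀ j < 66, 3 ∣ y j + rs (u % 3) (w % 3) j := fun j hj => by
    have h2 := (hy j hj).sub (((Int.dvd_self_sub_emod (x := u) (m := 3)).mul_left (co 0 (TL.getD j []))).add
      ((Int.dvd_self_sub_emod (x := w) (m := 3)).mul_left (co 4 (TL.getD j []))))
    rwa [show y j + rs u w j - _ = y j + rs (u % 3) (w % 3) j by unfold rs; ring] at h2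
  rcases big (u % 3) (by simp only [List.mem_cons, List.not_mem_nil]; omega) (w % 3)
    (by simp only [List.mem_cons, List.not_mem_nil]; omega) with ⟨h2, h3⟩ | h2
  · intro j hj
    have h4 := h1 j hj
    rwa [h2, h3, rs, mul_zero, mul_zero, add_zero, add_zero] at h4
  · have h3 := tot' h
    have h4 := sum_le_sum (s := range 49) (f := fun j => wt j * nz (rs (u % 3) (w % 3) j)) (g := fun j => wt j * y j ^ 2)
      fun j hj => have := mem_range.1 hj
        mul_le_mul_of_nonneg_left (nz_le (h1 j (by omega))) (by linarith [(facts j (by omega)).2.2.2.1])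
    have h5 := sum_le_sum (s := range 17) (f := fun i => nz (rs (u % 3) (w % 3) (49 + i))) (g := fun i => y (49 + i) ^ 2)
      fun i hi => have := mem_range.1 hi
        nz_le (h1 _ (by omega))
    have h6 := sum_le_sum (s := range 17) (f := fun i => ∑ k ∈ range 17, nz (sg (49 + i) * rs (u % 3) (w % 3) (49 + i) -
        sg (49 + k) * rs (u % 3) (w % 3) (49 + k)))
      (g := fun i => ∑ k ∈ range 17, (sg (49 + i) * y (49 + i) - sg (49 + k) * y (49 + k)) ^ 2)
      fun i hi => sum_le_sum fun k hk => nz_le (by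
        have := mem_range.1 hi
        have := mem_range.1 hk
        have h7 := ((h1 (49 + i) (by omega)).mul_left (sg (49 + i))).sub ((h1 (49 + k) (by omega)).mul_left (sg (49 + k)))
        rwa [mul_add, mul_add, add_sub_add_comm] at h7)
    linarith

theorem Bes.div (h : Bes 3 y) {a : ℕ → ℤ} (ha : ∀ j < 66, y j = 3 * a j) : Bes 1 a := fun c => by
  have h1 := h c
  rw [sum_congr rfl (g := fun j => 3 * (c j * a j)) fun j hj => by rw [ha j (mem_range.1 hj)]; ring, ← mul_sum] at h1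
  linarith

/-! ### the classification -/

variable {a : ℕ → ℤ}

theorem Bes.sq_le (h : Bes 1 a) {j : ℕ} (hj : j < 66) : a j = 0 ∨ a j = 1 ∨ a j = -1 := by
  have h1 := h fun k => if k = j then 1 else 0
  simp only [qf, ite_mul, one_mul, zero_mul, mul_ite, mul_one, mul_zero, sum_ite_eq', mem_range, hj, if_true,
    one_pow] at h1
  have h2 := (facts j hj).2.2.2.2
  have h3 : a j ≤ 1 := by nlinarith
  have h4 : -1 ≤ a j := by nlinarith
  omega

theorem deg_single {j : ℕ} (hj : j < 66) (h : ∀ k < 66, k ≠ j → a k = 0) : ∑ k ∈ range 66, bb k * a k = bb j * a j :=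
  sum_eq_single_of_mem j (mem_range.2 hj) fun k hk h1 => by rw [h k (mem_range.1 hk) h1, mul_zero]

theorem bb_pos : ∀ j < 66, 0 < bb j := by decide +kernel

theorem one_of_single (h : Bes 1 a) {j : ℕ} (hj : j < 66) (h1 : ∀ k < 66, k ≠ j → a k = 0)
    (hd : 0 < ∑ k ∈ range 66, bb k * a k) : a j = 1 ∧ ∑ k ∈ range 66, bb k * a k = bb j := by
  rw [deg_single hj h1] at hd ⊢
  have h2 := bb_pos j hj
  rcases h.sq_le hj with h3 | h3 | h3 <;> rw [h3] at hd ⊢
  · omega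
  · exact ⟨rfl, mul_one _⟩
  · omega

theorem zero_of_sum {n : ℕ} {f : ℕ → ℤ} (h0 : ∀ i < n, 0 ≤ f i) {i : ℕ} (hi : i < n) : f i ≤ ∑ j ∈ range n, f j :=
  single_le_sum (fun j hj => h0 j (mem_range.1 hj)) (mem_range.2 hi)

theorem wt_nonneg : ∀ j < 49, 0 ≤ wt j * a j ^ 2 := fun j hj =>
  mul_nonneg (by linarith [(facts j (by omega)).2.2.2.1]) (sq_nonneg _)

/-- a row of norm two -/
theorem one42 (h : Bes 1 a) {j : ℕ} (hj : j < 42) (h1 : a j ≠ 0) : ∀ k < 66, k ≠ j → a k = 0 := by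
  have h2 := tot' h
  have h3 : 0 ≤ ∑ i ∈ range 17, ∑ k ∈ range 17, (sg (49 + i) * a (49 + i) - sg (49 + k) * a (49 + k)) ^ 2 :=
    sum_nonneg fun _ _ => sum_nonneg fun _ _ => sq_nonneg _
  have h4 : 0 ≤ ∑ i ∈ range 17, a (49 + i) ^ 2 := sum_nonneg fun _ _ => sq_nonneg _
  have h5 : 0 < a j ^ 2 := sq_pos_of_ne_zero h1
  have h6 : wt j = 18 := if_neg (by omega)
  intro k hk hkj
  by_contra h7
  have h8 : 0 < a k ^ 2 := sq_pos_of_ne_zero h7
  rcases lt_or_ge k 49 with h9 | h9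
  · have h10 := add_le_sum (s := range 49) (f := fun j => wt j * a j ^ 2) (fun i hi => wt_nonneg i (mem_range.1 hi))
      (mem_range.2 h9) (mem_range.2 (by omega : j < 49)) hkj
    have h11 := (facts k hk).2.2.2.1
    simp only [h6] at h10
    nlinarith
  · obtain ⟨i, rfl⟩ := Nat.exists_eq_add_of_le h9
    have h10 := zero_of_sum (f := fun j => wt j * a j ^ 2) wt_nonneg (by omega : j < 49)
    have h11 := zero_of_sum (f := fun i => a (49 + i) ^ 2) (fun _ _ => sq_nonneg _) (by omega : i < 17)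
    simp only [h6] at h10 h11
    linarith

theorem seven : ∀ a0 ∈ ([0, 1, -1] : List ℤ), ∀ a1 ∈ ([0, 1, -1] : List ℤ), ∀ a2 ∈ ([0, 1, -1] : List ℤ),
    ∀ a3 ∈ ([0, 1, -1] : List ℤ), ∀ a4 ∈ ([0, 1, -1] : List ℤ), ∀ a5 ∈ ([0, 1, -1] : List ℤ),
    ∀ a6 ∈ ([0, 1, -1] : List ℤ), a0 ^ 2 + a1 ^ 2 + a2 ^ 2 + a3 ^ 2 + a4 ^ 2 + a5 ^ 2 + a6 ^ 2 ≤ 2 →
    512 ∣ bb 42 * a0 + bb 43 * a1 + bb 44 * a2 + bb 45 * a3 + bb 46 * a4 + bb 47 * a5 + bb 48 * a6 →
    bb 42 * a0 + bb 43 * a1 + bb 44 * a2 + bb 45 * a3 + bb 46 * a4 + bb 47 * a5 + bb 48 * a6 = 0 := by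
  decide +kernel

theorem odd_sum : ¬ 2 ∣ ∑ i ∈ range 17, bb (49 + i) := by decide +kernel

/-- the rows of the degrees with a `2`-part between `2 ^ 9` and `2 ^ 18` -/
def JJ : Finset ℕ := {23, 24, 27, 28, 35, 57, 64}

theorem mem_JJ : ∀ j < 66, 512 ∣ bb j → ¬ 2 ^ 19 ∣ bb j → j ∈ JJ := by decide +kernel

/-- **the classification** -/
theorem cls (h : Bes 1 a) (hd : 0 < ∑ k ∈ range 66, bb k * a k) (h9 : 512 ∣ ∑ k ∈ range 66, bb k * a k) :
    ∃ j < 66, ∀ k < 66, k ≠ j → a k = 0 := by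
  by_cases h1 : ∃ j < 42, a j ≠ 0
  · obtain ⟨j, hj, h2⟩ := h1
    exact ⟨j, by omega, one42 h hj h2⟩
  have h2 : ∀ j < 42, a j = 0 := fun j hj => by_contra fun e => h1 ⟨j, hj, e⟩
  have h3 := tot' h
  obtain ⟨A, hA⟩ : ∃ A, A = (range 17).filter fun i => a (49 + i) ≠ 0 := ⟨_, rfl⟩
  have e1 : ∑ i ∈ range 17, (if a (49 + i) ≠ 0 then (1 : ℤ) else 0) = A.card := by rw [hA, sum_boole]
  have e2 : ∑ i ∈ range 17, (if a (49 + i) ≠ 0 then (1 : ℤ) else 0) ^ 2 = A.card := by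
    rw [← e1]
    exact sum_congr rfl fun i _ => by split_ifs <;> rfl
  have e3 := idn (fun i => if a (49 + i) ≠ 0 then (1 : ℤ) else 0) 17
  rw [e1, e2] at e3
  have h4 : (A.card : ℤ) ≤ ∑ i ∈ range 17, a (49 + i) ^ 2 := e1 ▸ sum_le_sum fun i _ => by
    split_ifs with h5
    · exact sq_pos_of_ne_zero h5
    · exact sq_nonneg _
  have h5 : ∑ i ∈ range 17, ∑ k ∈ range 17, ((if a (49 + i) ≠ 0 then (1 : ℤ) else 0) -
      if a (49 + k) ≠ 0 then (1 : ℤ) else 0) ^ 2 ≤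
      ∑ i ∈ range 17, ∑ k ∈ range 17, (sg (49 + i) * a (49 + i) - sg (49 + k) * a (49 + k)) ^ 2 :=
    sum_le_sum fun i hi => sum_le_sum fun k hk => by
      have b1 := (sg_sq i (mem_range.1 hi)).1
      have b2 := (sg_sq k (mem_range.1 hk)).1
      split_ifs with c1 c2 c2
      · exact sq_nonneg _
      · rw [not_not.1 c2, mul_zero, sub_zero, sub_zero, mul_pow, b1, one_mul]
        exact sq_pos_of_ne_zero c1
      · rw [not_not.1 c1, mul_zero, zero_sub, zero_sub, neg_sq, neg_sq, mul_pow, b2, one_mul]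
        exact sq_pos_of_ne_zero c2
      · exact sq_nonneg _
  have h6 : A.card ≤ 17 := hA ▸ (card_filter_le _ _).trans (card_range 17).le
  have h7 : 0 ≤ ∑ j ∈ range 49, wt j * a j ^ 2 := sum_nonneg fun j hj => wt_nonneg j (mem_range.1 hj)
  have h8 : A.card ≠ 0 → ∀ j < 49, a j = 0 := fun e j hj => by
    by_contra h8
    have b1 := zero_of_sum (f := fun j => wt j * a j ^ 2) wt_nonneg hj
    have b2 := (facts j (by omega)).2.2.2.1
    have b3 : 0 < a j ^ 2 := sq_pos_of_ne_zero h8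
    have b4 : (1 : ℤ) ≤ A.card := by omega
    have b5 : (A.card : ℤ) ≤ 17 := by omega
    push_cast at e3
    nlinarith
  have h10 : ∀ i < 17, i ∉ A → a (49 + i) = 0 := fun i hi e => by_contra fun e' =>
    e (hA ▸ mem_filter.2 ⟨mem_range.2 hi, e'⟩)
  have h11 : A.card = 0 ∨ A.card = 1 ∨ A.card = 17 := by
    by_contra b1
    have b4 : (2 : ℤ) ≤ A.card := by omega
    have b5 : (A.card : ℤ) ≤ 16 := by omega
    push_cast at e3
    nlinarith
  rcases h11 with b1 | b1 | b1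
  · exfalso
    have b2 : ∀ i < 17, a (49 + i) = 0 := fun i hi => h10 i hi (by rw [card_eq_zero.1 b1]; exact notMem_empty i)
    have b3 : ∀ f : ℕ → ℤ → ℤ, (∀ j, f j 0 = 0) → ∑ k ∈ range 49, f k (a k) = f 42 (a 42) + f 43 (a 43) + f 44 (a 44) +
        f 45 (a 45) + f 46 (a 46) + f 47 (a 47) + f 48 (a 48) := fun f hf => by
      rw [sum_range_add _ 42 7, sum_eq_zero fun j hj => by rw [h2 j (mem_range.1 hj), hf]]
      simp only [sum_range_succ, sum_range_zero, zero_add, add_zero]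
    rw [sum_range_add _ 49 17, sum_eq_zero (s := range 17) fun i hi => by rw [b2 i (mem_range.1 hi), mul_zero],
      add_zero, b3 (fun k z => bb k * z) fun _ => mul_zero _] at hd h9
    rw [b3 (fun k z => wt k * z ^ 2) fun _ => by simp] at h3
    have b4 : ∀ j < 66, a j ∈ ([0, 1, -1] : List ℤ) := fun j hj => by simpa using h.sq_le hj
    have b5 : 0 ≤ ∑ i ∈ range 17, ∑ k ∈ range 17, (sg (49 + i) * a (49 + i) - sg (49 + k) * a (49 + k)) ^ 2 :=
      sum_nonneg fun _ _ => sum_nonneg fun _ _ => sq_nonneg _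
    refine hd.ne' (seven _ (b4 _ (by omega)) _ (b4 _ (by omega)) _ (b4 _ (by omega)) _ (b4 _ (by omega)) _
      (b4 _ (by omega)) _ (b4 _ (by omega)) _ (b4 _ (by omega)) ?_ h9)
    norm_num [wt] at h3
    omega
  · obtain ⟨i, hi⟩ := card_eq_one.1 b1
    have b2 : i < 17 := mem_range.1 (mem_filter.1 (hA ▸ hi ▸ mem_singleton_self i)).1
    refine ⟨49 + i, by omega, fun k hk hki => ?_⟩
    rcases lt_or_ge k 49 with b3 | b3
    · exact h8 (by omega) k b3
    · obtain ⟨l, rfl⟩ := Nat.exists_eq_add_of_le b3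
      exact h10 l (by omega) (by rw [hi, mem_singleton]; omega)
  · exfalso
    have b2 : A = range 17 := eq_of_subset_of_card_le (hA ▸ filter_subset _ _) (by rw [b1, card_range])
    rw [sum_range_add _ 49 17, sum_eq_zero (s := range 49) fun j hj => by rw [h8 (by omega) j (mem_range.1 hj), mul_zero],
      zero_add] at h9
    have b3 : (2 : ℤ) ∣ ∑ i ∈ range 17, (bb (49 + i) * a (49 + i) - bb (49 + i)) := dvd_sum fun i hi => by
      have b4 := (mem_filter.1 (hA ▸ b2 ▸ hi : i ∈ (range 17).filter fun i => a (49 + i) ≠ 0)).2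
      have := mem_range.1 hi
      rcases h.sq_le (by omega : 49 + i < 66) with b5 | b5 | b5
      · exact absurd b5 b4
      · rw [b5]; omega
      · rw [b5]; omega
    rw [sum_sub_distrib] at b3
    have b4 := odd_sum
    omega

theorem qf_two : ∀ j ∈ JJ, qf (fun k => if k = j then 2 else if k = 49 then -sg j else 0) < 16 := by decide +kernel

theorem gm_bb : ∀ j < 42, ∑ k ∈ range 66, bb k * Gm j k ≠ 0 := by decide +kernel

end Cfsg.Agent.BZ.C7
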